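import Groth.Prelude.Def_FlatCA
import Mathlib

/-!
# Associated primes and fibre modules
-/

universe u v

namespace GrothLib.AssFib

open TensorProduct

variable {S : Type u} [CommRing S]

theorem mem_ass_iff {M : Type v} [AddCommGroup M] [Module S M] {q : Ideal S} :
    q ∈ FlatCA.ass S M ↔ q.IsPrime ∧ ∃ m : M, ∀ s : S, s ∈ q ↔ s • m = 0 := by
  constructor
  · rintro ⟨hq, m, rfl⟩
    exact ⟨hq, m, fun s => Submodule.mem_annihilator_span_singleton m s⟩
  · rintro ⟨hq, m, hm⟩
    refine ⟨hq, m, ?_⟩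
    ext s
    rw [Submodule.mem_annihilator_span_singleton]
    exact hm s

/-- Injective linear maps preserve associated primes. -/
theorem ass_mono {M N : Type v} [AddCommGroup M] [Module S M] [AddCommGroup N] [Module S N]
    (f : M →ₗ[S] N) (hf : Function.Injective f) {q : Ideal S} (h : q ∈ FlatCA.ass S M) :
    q ∈ FlatCA.ass S N := by
  obtain ⟨hq, m, hm⟩ := mem_ass_iff.mp h
  refine mem_ass_iff.mpr ⟨hq, f m, fun s => ?_⟩
  rw [hm, ← map_smul, map_eq_zero_iff f hf]

/-- Associated primes in an exact sequence. -/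
theorem ass_exact {L M N : Type v} [AddCommGroup L] [Module S L] [AddCommGroup M] [Module S M]
    [AddCommGroup N] [Module S N] (f : L →ₗ[S] M) (g : M →ₗ[S] N) (hf : Function.Injective f)
    (hex : Function.Exact f g) {q : Ideal S} (h : q ∈ FlatCA.ass S M) :
    q ∈ FlatCA.ass S L ∨ q ∈ FlatCA.ass S N := by
  obtain ⟨hq, x, hx⟩ := mem_ass_iff.mp h
  by_cases hc : ∃ s : S, s • x ≠ 0 ∧ g (s • x) = 0
  · obtain ⟨s, hs, hs0⟩ := hc
    obtain ⟨l, hl⟩ := (hex _).mp hs0
    refine Or.inl (mem_ass_iff.mpr ⟨hq, l, fun t => ?_⟩)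
    rw [← map_eq_zero_iff f hf, map_smul, hl, smul_smul, ← hx]
    refine ⟨fun ht => q.mul_mem_right s ht, fun hts => ?_⟩
    exact (hq.mem_or_mem hts).resolve_right fun hsq => hs ((hx s).mp hsq)
  · push Not at hc
    refine Or.inr (mem_ass_iff.mpr ⟨hq, g x, fun t => ?_⟩)
    rw [← map_smul, hx]
    refine ⟨fun ht => by rw [ht, map_zero], fun ht => ?_⟩
    by_contra hne
    exact hc t hne ht

variable {R : Type u} [CommRing R] [Algebra R S] (N : Type u) [AddCommGroup N] [Module S N] [Module R N]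
  [IsScalarTower R S N]

/-- `S`-linear `lTensor`. -/
noncomputable abbrev lT {M M' : Type u} [AddCommGroup M] [Module R M] [AddCommGroup M'] [Module R M']
    (f : M →ₗ[R] M') : N ⊗[R] M →ₗ[S] N ⊗[R] M' :=
  TensorProduct.AlgebraTensorModule.lTensor S N f

theorem exists_fg_range {M : Type u} [AddCommGroup M] [Module R M] (x : N ⊗[R] M) :
    ∃ P : Submodule R M, P.FG ∧ x ∈ LinearMap.range (lT (S := S) N P.subtype) := by
  obtain ⟨P, hP, y, hy⟩ := Submodule.exists_fg_le_eq_rTensor_subtype (M := N) (TensorProduct.comm R N M x)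
  refine ⟨P, hP, TensorProduct.comm R P N y, ?_⟩
  apply (TensorProduct.comm R N M).injective
  rw [hy]
  clear hy
  induction y using TensorProduct.induction_on with
  | zero => simp
  | add a b ha hb => simp only [map_add, ha, hb]
  | tmul a b => rfl

theorem exists_fg_eq_zero {M : Type u} [AddCommGroup M] [Module R M] {P : Submodule R M} (hP : P.FG)
    (t : N ⊗[R] P) (h : lT (S := S) N P.subtype t = 0) :
    ∃ (Q : Submodule R M) (hPQ : P ≤ Q), Q.FG ∧ lT (S := S) N (Submodule.inclusion hPQ) t = 0 := by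
  have key : ∀ {X Y : Type u} [AddCommGroup X] [Module R X] [AddCommGroup Y] [Module R Y] (f : X →ₗ[R] Y)
      (z : N ⊗[R] X), TensorProduct.comm R N Y (lT (S := S) N f z) = f.rTensor N (TensorProduct.comm R N X z) := by
    intro X Y _ _ _ _ f z
    induction z using TensorProduct.induction_on with
    | zero => simp
    | add a b ha hb => simp only [map_add, ha, hb]
    | tmul a b => rfl
  have h' : P.subtype.rTensor N (TensorProduct.comm R N P t) = 0 := by rw [← key, h, map_zero]
  obtain ⟨Q, hPQ, hQ, h0⟩ := TensorProduct.eq_zero_of_fg_of_subtype_eq_zero hP h'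
  refine ⟨Q, hPQ, hQ, (TensorProduct.comm R N Q).injective ?_⟩
  rw [key, h0, map_zero]

section Fiber

variable (p : Ideal R) [p.IsPrime]

instance isLocalizedModule_quotient_residueField :
    IsLocalizedModule p.primeCompl (Algebra.linearMap (R ⧸ p) p.ResidueField |>.restrictScalars R) where
  map_units b := by
    rw [Module.End.isUnit_iff]
    have hb : algebraMap R p.ResidueField b ≠ 0 := by
      rw [Ne, Ideal.algebraMap_residueField_eq_zero]; exact b.2
    refine ⟨fun x y hxy => ?_, fun y => ⟨(algebraMap R p.ResidueField b)⁻¹ * y, ?_⟩⟩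
    · simp only [Module.algebraMap_end_apply, Algebra.smul_def] at hxy
      exact mul_left_cancel₀ hb hxy
    · simp only [Module.algebraMap_end_apply, Algebra.smul_def]
      rw [← mul_assoc, mul_inv_cancel₀ hb, one_mul]
  surj y := by
    obtain ⟨a, b, hb, hab⟩ := IsFractionRing.div_surjective (R ⧸ p) y
    obtain ⟨b, rfl⟩ := Ideal.Quotient.mk_surjective b
    have hb' : b ∉ p := fun h => nonZeroDivisors.ne_zero hb (Ideal.Quotient.eq_zero_iff_mem.mpr h)
    refine ⟨(a, ⟨b, hb'⟩), ?_⟩
    show b • y = algebraMap (R ⧸ p) p.ResidueField a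
    rw [← hab, ← IsScalarTower.algebraMap_smul (R ⧸ p) b, Algebra.smul_def, Ideal.Quotient.algebraMap_eq,
      mul_div_cancel₀]
    rw [Ne, map_eq_zero_iff _ (IsFractionRing.injective (R ⧸ p) p.ResidueField)]
    exact nonZeroDivisors.ne_zero hb
  exists_of_eq {x y} h := ⟨1, by rw [IsFractionRing.injective (R ⧸ p) p.ResidueField h]⟩

attribute [local instance] Algebra.TensorProduct.rightAlgebra

/-- The fibre module as `κ(p) ⊗[R] N`. -/
noncomputable def fiberEquiv : FlatCA.fiberMod p S N ≃+ p.ResidueField ⊗[R] N :=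
  let c : (p.Fiber S) ≃ₗ[S] S ⊗[R] p.ResidueField :=
    { (TensorProduct.comm R p.ResidueField S).toAddEquiv with
      map_smul' := fun s x => by
        show TensorProduct.comm R p.ResidueField S (s • x) = s • TensorProduct.comm R p.ResidueField S x
        induction x using TensorProduct.induction_on with
        | zero => simp
        | add a b ha hb => simp only [smul_add, map_add, ha, hb]
        | tmul k t =>
          rw [Algebra.smul_def, Algebra.TensorProduct.right_algebraMap_apply, Algebra.TensorProduct.tmul_mul_tmul,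
            one_mul, TensorProduct.comm_tmul, TensorProduct.comm_tmul, TensorProduct.smul_tmul', smul_eq_mul] }
  ((TensorProduct.comm S (p.Fiber S) N).trans
    ((c.lTensor N).trans (AlgebraTensorModule.cancelBaseChange R S S N p.ResidueField))).toAddEquiv.trans
    (TensorProduct.comm R N p.ResidueField).toAddEquiv

theorem fiberEquiv_toFiberMod (n : N) :
    fiberEquiv N p (FlatCA.toFiberMod p S N n) = (1 : p.ResidueField) ⊗ₜ[R] n := by
  show TensorProduct.comm R N p.ResidueField
    (AlgebraTensorModule.cancelBaseChange R S S N p.ResidueField (n ⊗ₜ[S] ((1 : S) ⊗ₜ[R] (1 : p.ResidueField)))) = _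
  rw [AlgebraTensorModule.cancelBaseChange_tmul, one_smul, TensorProduct.comm_tmul]

theorem fiberEquiv_smul (b : R) (z : FlatCA.fiberMod p S N) :
    fiberEquiv N p (algebraMap R S b • z) = b • fiberEquiv N p z := by
  show TensorProduct.comm R N p.ResidueField _ = b • TensorProduct.comm R N p.ResidueField _
  rw [← map_smul (TensorProduct.comm R N p.ResidueField)]
  congr 1
  rw [← IsScalarTower.algebraMap_smul S b (_ : N ⊗[R] p.ResidueField)]
  exact map_smul ((TensorProduct.comm S (p.Fiber S) N).trans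
    ((LinearEquiv.lTensor N _).trans (AlgebraTensorModule.cancelBaseChange R S S N p.ResidueField)))
      (algebraMap R S b) z

/-- The map `R/p ⊗ N → κ(p) ⊗ N` is a localization. -/
noncomputable abbrev quotToFiber : (R ⧸ p) ⊗[R] N →ₗ[R] p.ResidueField ⊗[R] N :=
  ((Algebra.linearMap (R ⧸ p) p.ResidueField).restrictScalars R).rTensor N

theorem isLocalizedModule_quotToFiber : IsLocalizedModule p.primeCompl (quotToFiber N p) :=
  inferInstanceAs (IsLocalizedModule p.primeCompl
    (AlgebraTensorModule.rTensor R N ((Algebra.linearMap (R ⧸ p) p.ResidueField).restrictScalars R)))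

theorem surj_toFiberMod (z : FlatCA.fiberMod p S N) :
    ∃ b : R, b ∉ p ∧ ∃ n, FlatCA.toFiberMod p S N n = algebraMap R S b • z := by
  haveI : IsLocalizedModule p.primeCompl (quotToFiber N p) := isLocalizedModule_quotToFiber N p
  obtain ⟨⟨w, b⟩, hw⟩ := IsLocalizedModule.surj p.primeCompl (quotToFiber N p) (fiberEquiv N p z)
  obtain ⟨n, rfl⟩ := TensorProduct.mk_surjective R N (R ⧸ p) Ideal.Quotient.mk_surjective w
  refine ⟨b, b.2, n, (fiberEquiv N p).injective ?_⟩
  rw [fiberEquiv_toFiberMod, fiberEquiv_smul]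
  refine Eq.trans ?_ hw.symm
  show _ = quotToFiber N p ((1 : R ⧸ p) ⊗ₜ[R] n)
  rw [LinearMap.rTensor_tmul]
  simp

theorem mem_map_smul_iff (n : N) :
    n ∈ ((p.map (algebraMap R S)) • (⊤ : Submodule S N)) ↔ (1 : R ⧸ p) ⊗ₜ[R] n = 0 := by
  rw [← map_eq_zero_iff (TensorProduct.quotTensorEquivQuotSMul N p) (LinearEquiv.injective _),
    TensorProduct.quotTensorEquivQuotSMul_mk_one_tmul, Submodule.Quotient.mk_eq_zero,
    ← Submodule.restrictScalars_mem R (p.map (algebraMap R S) • (⊤ : Submodule S N))]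
  rw [Ideal.smul_restrictScalars, Submodule.restrictScalars_top]

theorem eq_zero_toFiberMod {n : N} (h : FlatCA.toFiberMod p S N n = 0) :
    ∃ b : R, b ∉ p ∧ algebraMap R S b • n ∈ (p.map (algebraMap R S)) • (⊤ : Submodule S N) := by
  have h1 : quotToFiber N p ((1 : R ⧸ p) ⊗ₜ[R] n) = 0 := by
    have := congrArg (fiberEquiv N p) h
    rw [fiberEquiv_toFiberMod, map_zero] at this
    rw [LinearMap.rTensor_tmul]
    simpa using this
  haveI : IsLocalizedModule p.primeCompl (quotToFiber N p) := isLocalizedModule_quotToFiber N p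
  obtain ⟨b, hb⟩ := (IsLocalizedModule.eq_zero_iff p.primeCompl (quotToFiber N p)).mp h1
  refine ⟨b, b.2, ?_⟩
  rw [mem_map_smul_iff, IsScalarTower.algebraMap_smul, TensorProduct.tmul_smul]
  exact hb

theorem smul_injective (b : R) (hb : b ∉ p) (z : FlatCA.fiberMod p S N) (h : algebraMap R S b • z = 0) :
    z = 0 := by
  apply (fiberEquiv N p).injective
  rw [map_zero]
  have h1 := congrArg (fiberEquiv N p) h
  rw [fiberEquiv_smul, map_zero] at h1
  have hu : IsUnit (algebraMap R p.ResidueField b) := by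
    rw [isUnit_iff_ne_zero, Ne, Ideal.algebraMap_residueField_eq_zero]; exact hb
  rwa [← IsScalarTower.algebraMap_smul p.ResidueField b, hu.smul_eq_zero] at h1

theorem toFiberMod_of_mem {n : N} (h : n ∈ (p.map (algebraMap R S)) • (⊤ : Submodule S N)) :
    FlatCA.toFiberMod p S N n = 0 := by
  apply (fiberEquiv N p).injective
  rw [fiberEquiv_toFiberMod, map_zero]
  have h1 := congrArg (quotToFiber N p) ((mem_map_smul_iff N p n).mp h)
  rw [LinearMap.rTensor_tmul, map_zero] at h1
  simpa using h1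

/-- The map `N/pN → fibre`. -/
noncomputable def θ : (N ⧸ (p.map (algebraMap R S)) • (⊤ : Submodule S N)) →ₗ[S] FlatCA.fiberMod p S N :=
  Submodule.liftQ _ (FlatCA.toFiberMod p S N) fun _ hn => toFiberMod_of_mem N p hn

theorem θ_eq_zero {x : N ⧸ (p.map (algebraMap R S)) • (⊤ : Submodule S N)} (h : θ N p x = 0) :
    ∃ b : R, b ∉ p ∧ algebraMap R S b • x = 0 := by
  obtain ⟨n, rfl⟩ := Submodule.Quotient.mk_surjective _ x
  obtain ⟨b, hb, hbn⟩ := eq_zero_toFiberMod N p h
  exact ⟨b, hb, (Submodule.Quotient.mk_eq_zero _).mpr hbn⟩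

theorem θ_injective_of_flat [Module.Flat R N] : Function.Injective (θ (S := S) N p) := by
  rw [injective_iff_map_eq_zero]
  intro x hx
  obtain ⟨n, rfl⟩ := Submodule.Quotient.mk_surjective _ x
  rw [Submodule.Quotient.mk_eq_zero, mem_map_smul_iff]
  have hinj : Function.Injective (quotToFiber N p) :=
    Module.Flat.rTensor_preserves_injective_linearMap _ (IsFractionRing.injective (R ⧸ p) p.ResidueField)
  apply hinj
  rw [map_zero, LinearMap.rTensor_tmul]
  have := congrArg (fiberEquiv N p) (show FlatCA.toFiberMod p S N n = 0 from hx)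
  rw [fiberEquiv_toFiberMod, map_zero] at this
  simpa using this

theorem mem_ass_fiberMod_of_quot (q : Ideal S) (hq : q.comap (algebraMap R S) = p)
    (h : q ∈ FlatCA.ass S (N ⧸ (p.map (algebraMap R S)) • (⊤ : Submodule S N))) :
    q ∈ FlatCA.ass S (FlatCA.fiberMod p S N) := by
  obtain ⟨hqp, x, hx⟩ := mem_ass_iff.mp h
  refine mem_ass_iff.mpr ⟨hqp, θ N p x, fun s => ⟨fun hs => by rw [← map_smul, (hx s).mp hs, map_zero], fun hs => ?_⟩⟩
  rw [← map_smul] at hs
  obtain ⟨b, hb, hbx⟩ := θ_eq_zero N p hs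
  rw [smul_smul, ← hx] at hbx
  exact (hqp.mem_or_mem hbx).resolve_left fun hbq => hb (hq ▸ hbq)

theorem exists_of_ass_fiberMod {q : Ideal S} (h : q ∈ FlatCA.ass S (FlatCA.fiberMod p S N)) :
    q.IsPrime ∧ ∃ x : N ⧸ (p.map (algebraMap R S)) • (⊤ : Submodule S N), ∀ s, s ∈ q ↔ s • θ N p x = 0 := by
  obtain ⟨hqp, z, hz⟩ := mem_ass_iff.mp h
  obtain ⟨b, hb, n, hn⟩ := surj_toFiberMod N p z
  refine ⟨hqp, Submodule.Quotient.mk n, fun s => ?_⟩
  show _ ↔ s • FlatCA.toFiberMod p S N n = 0
  rw [hn, smul_comm, hz]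
  exact ⟨fun h => by rw [h, smul_zero], fun h => smul_injective N p b hb _ h⟩

theorem comap_of_ass_fiberMod {q : Ideal S} (h : q ∈ FlatCA.ass S (FlatCA.fiberMod p S N)) :
    q.comap (algebraMap R S) = p := by
  obtain ⟨hqp, z, hz⟩ := mem_ass_iff.mp h
  ext r
  rw [Ideal.mem_comap, hz]
  constructor
  · intro h0
    by_contra hr
    exact hqp.ne_top ((Ideal.eq_top_iff_one _).mpr ((hz 1).mpr (by rw [one_smul]; exact smul_injective N p r hr z h0)))
  · intro hr
    apply (fiberEquiv N p).injective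
    rw [fiberEquiv_smul, map_zero, ← IsScalarTower.algebraMap_smul p.ResidueField r,
      Ideal.algebraMap_residueField_eq_zero.mpr hr, zero_smul]

theorem ass_quot_subset_of_flat [Module.Flat R N] {q : Ideal S}
    (h : q ∈ FlatCA.ass S (N ⧸ (p.map (algebraMap R S)) • (⊤ : Submodule S N))) :
    q ∈ FlatCA.ass S (FlatCA.fiberMod p S N) :=
  ass_mono (θ N p) (θ_injective_of_flat N p) h

theorem ass_fiberMod_subset_of_flat [Module.Flat R N] {q : Ideal S}
    (h : q ∈ FlatCA.ass S (FlatCA.fiberMod p S N)) :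
    q ∈ FlatCA.ass S (N ⧸ (p.map (algebraMap R S)) • (⊤ : Submodule S N)) := by
  obtain ⟨hqp, x, hx⟩ := exists_of_ass_fiberMod N p h
  refine mem_ass_iff.mpr ⟨hqp, x, fun s => ?_⟩
  rw [hx, ← map_smul, map_eq_zero_iff _ (θ_injective_of_flat N p)]

end Fiber

end GrothLib.AssFib

namespace GrothLib.AssFib

open TensorProduct

attribute [local instance] Algebra.TensorProduct.rightAlgebra

variable {R : Type u} [CommRing R] {S : Type u} [CommRing S] [Algebra R S] (N : Type u) [AddCommGroup N]
  [Module S N] [Module R N] [IsScalarTower R S N] (p : Ideal R) [p.IsPrime]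

theorem includeRight_smul (s : S) (z : FlatCA.fiberMod p S N) :
    ((Algebra.TensorProduct.includeRight (R := R) (A := p.ResidueField) (B := S)).toRingHom s) • z = s • z :=
  by
  revert z
  show ∀ z : (p.Fiber S) ⊗[S] N, algebraMap S (p.Fiber S) s • z = s • z
  intro z
  exact IsScalarTower.algebraMap_smul (p.Fiber S) s z

theorem comap_mem_ass {Q : Ideal (p.Fiber S)} (hQ : Q ∈ FlatCA.ass (p.Fiber S) (FlatCA.fiberMod p S N)) :
    Q.comap (Algebra.TensorProduct.includeRight (R := R) (A := p.ResidueField) (B := S)).toRingHom ∈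
      FlatCA.ass S (FlatCA.fiberMod p S N) := by
  obtain ⟨hQp, z, hz⟩ := mem_ass_iff.mp hQ
  refine mem_ass_iff.mpr ⟨Ideal.IsPrime.comap _, z, fun s => ?_⟩
  rw [Ideal.mem_comap, hz, includeRight_smul]

/-- Every element of the fibre ring is, up to a unit from `R ∖ p`, in the image of `S`. -/
theorem exists_smul_fiber (x : p.Fiber S) :
    ∃ b : R, b ∉ p ∧ ∃ s : S, (Algebra.TensorProduct.includeRight (R := R) (A := p.ResidueField) (B := S)).toRingHom
      (algebraMap R S b) * x = (Algebra.TensorProduct.includeRight (R := R) (A := p.ResidueField) (B := S)).toRingHom s := by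
  obtain ⟨b, hb, s, hs⟩ := surj_toFiberMod S p (x ⊗ₜ[S] (1 : S) : FlatCA.fiberMod p S S)
  refine ⟨b, hb, s, ?_⟩
  let e := TensorProduct.rid S (p.Fiber S)
  have h1 : e ((algebraMap R S b) • (x ⊗ₜ[S] (1 : S))) = e ((1 : p.Fiber S) ⊗ₜ[S] s) := (congrArg e hs).symm
  rw [map_smul] at h1
  rw [show e (x ⊗ₜ[S] (1 : S)) = x from one_smul S x, show e ((1 : p.Fiber S) ⊗ₜ[S] s) = s • (1 : p.Fiber S) from rfl] at h1
  rw [Algebra.smul_def, Algebra.smul_def, mul_one] at h1
  exact h1

theorem exists_lift_ass {q : Ideal S} (hq : q ∈ FlatCA.ass S (FlatCA.fiberMod p S N)) :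
    ∃ Q ∈ FlatCA.ass (p.Fiber S) (FlatCA.fiberMod p S N),
      Q.comap (Algebra.TensorProduct.includeRight (R := R) (A := p.ResidueField) (B := S)).toRingHom = q := by
  have hcomap := comap_of_ass_fiberMod N p hq
  obtain ⟨hqp, z, hz⟩ := mem_ass_iff.mp hq
  let ι := (Algebra.TensorProduct.includeRight (R := R) (A := p.ResidueField) (B := S)).toRingHom
  let Q : Ideal (p.Fiber S) := (Submodule.span (p.Fiber S) {z}).annihilator
  have hQ : ∀ x, x ∈ Q ↔ x • z = 0 := fun x => Submodule.mem_annihilator_span_singleton z x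
  have hc : Q.comap ι = q := by
    ext s
    rw [Ideal.mem_comap, hQ, hz, includeRight_smul]
  refine ⟨Q, mem_ass_iff.mpr ⟨⟨?_, ?_⟩, z, hQ⟩, hc⟩
  · intro h
    apply hqp.ne_top
    rw [← hc, h, Ideal.comap_top]
  · intro x y hxy
    obtain ⟨b, hb, s, hs⟩ := exists_smul_fiber p x
    obtain ⟨c, hc', t, ht⟩ := exists_smul_fiber p y
    have hst : s * t ∈ q := by
      rw [← hc, Ideal.mem_comap, map_mul, ← hs, ← ht, mul_mul_mul_comm]
      exact Q.mul_mem_left _ hxy
    have key : ∀ (x : p.Fiber S) (b : R) (s : S), b ∉ p → ι (algebraMap R S b) * x = ι s → s ∈ q → x ∈ Q := by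
      intro x b s hb hs hsq
      rw [hQ]
      apply smul_injective N p b hb
      rw [← includeRight_smul N p (algebraMap R S b), smul_smul, hs, includeRight_smul, ← hz]
      exact hsq
    rcases hqp.mem_or_mem hst with h | h
    · exact Or.inl (key x b s hb hs h)
    · exact Or.inr (key y c t hc' ht h)

omit [p.IsPrime] in
/-- `n ↦ n ⊗ 1`. -/
noncomputable def toTensorQuot : N →ₗ[S] N ⊗[R] (R ⧸ p) where
  toFun n := n ⊗ₜ 1
  map_add' a b := TensorProduct.add_tmul a b 1
  map_smul' s n := by rw [RingHom.id_apply, TensorProduct.smul_tmul']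

theorem toTensorQuot_surjective : Function.Surjective (toTensorQuot (S := S) N p) := fun w => by
  induction w using TensorProduct.induction_on with
  | zero => exact ⟨0, map_zero _⟩
  | add a b ha hb =>
    obtain ⟨u, rfl⟩ := ha
    obtain ⟨v, rfl⟩ := hb
    exact ⟨u + v, map_add _ _ _⟩
  | tmul n c =>
    obtain ⟨c, rfl⟩ := Ideal.Quotient.mk_surjective c
    refine ⟨c • n, ?_⟩
    show (c • n) ⊗ₜ[R] (1 : R ⧸ p) = _
    rw [TensorProduct.smul_tmul, Algebra.smul_def, mul_one]
    rfl

theorem toTensorQuot_eq_zero (n : N) :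
    toTensorQuot (S := S) N p n = 0 ↔ n ∈ (p.map (algebraMap R S)) • (⊤ : Submodule S N) := by
  rw [mem_map_smul_iff, ← map_eq_zero_iff (TensorProduct.comm R N (R ⧸ p)) (LinearEquiv.injective _)]
  rfl

/-- `N/pN ≅ N ⊗ R/p`. -/
noncomputable def quotEquiv : (N ⧸ (p.map (algebraMap R S)) • (⊤ : Submodule S N)) ≃ₗ[S] N ⊗[R] (R ⧸ p) :=
  (Submodule.quotEquivOfEq _ _ (by ext n; exact (toTensorQuot_eq_zero N p n).symm)).trans
    ((toTensorQuot (S := S) N p).quotKerEquivOfSurjective (toTensorQuot_surjective N p))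

theorem ass_tensor_of_ass_quot [Module.Flat R N] {M : Type u} [AddCommGroup M] [Module R M]
    (hp : p ∈ FlatCA.ass R M) {q : Ideal S}
    (h : q ∈ FlatCA.ass S (N ⧸ (p.map (algebraMap R S)) • (⊤ : Submodule S N))) :
    q ∈ FlatCA.ass S (N ⊗[R] M) := by
  obtain ⟨-, m, hm⟩ := mem_ass_iff.mp hp
  let f : (R ⧸ p) →ₗ[R] M := p.liftQ (LinearMap.toSpanSingleton R M m) fun r hr => (hm r).mp hr
  have hf : Function.Injective f := by
    rw [injective_iff_map_eq_zero]
    intro x hx
    obtain ⟨r, rfl⟩ := Submodule.Quotient.mk_surjective p x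
    exact (Submodule.Quotient.mk_eq_zero p).mpr ((hm r).mpr hx)
  refine ass_mono ((lT (S := S) N f).comp (quotEquiv N p).toLinearMap) ?_ h
  exact (Module.Flat.lTensor_preserves_injective_linearMap f hf).comp (quotEquiv N p).injective

theorem mem_ass_quot_of_tensor [Module.Flat R N] [IsNoetherianRing R] (M : Type u) [AddCommGroup M] [Module R M]
    [Module.Finite R M] (q : Ideal S) (hq : q.comap (algebraMap R S) = p) (h : q ∈ FlatCA.ass S (N ⊗[R] M)) :
    q ∈ FlatCA.ass S (N ⧸ (p.map (algebraMap R S)) • (⊤ : Submodule S N)) := by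
  induction ‹Module.Finite R M› using IsNoetherianRing.induction_on_isQuotientEquivQuotientPrime R with
  | subsingleton L =>
    obtain ⟨hqp, x, hx⟩ := mem_ass_iff.mp h
    haveI : Subsingleton (N ⊗[R] L) :=
      ⟨fun a b => by
        have key : ∀ a : N ⊗[R] L, a = 0 := fun a => by
          induction a using TensorProduct.induction_on with
          | zero => rfl
          | add u v hu hv => rw [hu, hv, add_zero]
          | tmul n l => rw [Subsingleton.elim l 0, TensorProduct.tmul_zero]
        rw [key a, key b]⟩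
    exact absurd ((Ideal.eq_top_iff_one _).mpr ((hx 1).mpr (Subsingleton.elim _ _))) hqp.ne_top
  | quotient L P e =>
    have h' : q ∈ FlatCA.ass S (N ⧸ (P.asIdeal.map (algebraMap R S)) • (⊤ : Submodule S N)) :=
      ass_mono ((quotEquiv (S := S) N P.asIdeal).symm.toLinearMap.comp (lT (S := S) N e.toLinearMap))
        ((quotEquiv (S := S) N P.asIdeal).symm.injective.comp
          (Module.Flat.lTensor_preserves_injective_linearMap e.toLinearMap e.injective)) h
    have hP : P.asIdeal = p :=
      (comap_of_ass_fiberMod N P.asIdeal (ass_quot_subset_of_flat N P.asIdeal h')).symm.trans hq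
    subst hP
    exact h'
  | exact L₁ L₂ L₃ f g hf hg hex ih₁ ih₂ =>
    rcases ass_exact (lT (S := S) N f) (lT (S := S) N g) (Module.Flat.lTensor_preserves_injective_linearMap f hf)
      (lTensor_exact N hex hg) h with h' | h'
    · exact ih₁ h'
    · exact ih₂ h'

theorem exists_fg_of_ass_flat [Module.Flat R N] (M : Type u) [AddCommGroup M] [Module R M] {q : Ideal S}
    (h : q ∈ FlatCA.ass S (N ⊗[R] M)) : ∃ M' : Submodule R M, M'.FG ∧ q ∈ FlatCA.ass S (N ⊗[R] ↥M') := by
  obtain ⟨hqp, x, hx⟩ := mem_ass_iff.mp h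
  obtain ⟨P, hP, y, rfl⟩ := exists_fg_range (S := S) N x
  refine ⟨P, hP, mem_ass_iff.mpr ⟨hqp, y, fun s => ?_⟩⟩
  rw [hx, ← map_smul, map_eq_zero_iff (lT (S := S) N P.subtype)
    (Module.Flat.lTensor_preserves_injective_linearMap P.subtype Subtype.val_injective)]

theorem exists_fg_of_ass_noetherian [IsNoetherianRing S] (M : Type u) [AddCommGroup M] [Module R M] {q : Ideal S}
    (h : q ∈ FlatCA.ass S (N ⊗[R] M)) : ∃ M' : Submodule R M, M'.FG ∧ q ∈ FlatCA.ass S (N ⊗[R] ↥M') := by
  classical
  obtain ⟨hqp, x, hx⟩ := mem_ass_iff.mp h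
  obtain ⟨P, hP, y, rfl⟩ := exists_fg_range (S := S) N x
  obtain ⟨G, hG⟩ := IsNoetherian.noetherian q
  have step : ∀ F : Finset S, (↑F : Set S) ⊆ q → ∃ (Q : Submodule R M) (hPQ : P ≤ Q), Q.FG ∧
      ∀ g ∈ F, g • lT (S := S) N (Submodule.inclusion hPQ) y = 0 := by
    intro F hF
    induction F using Finset.induction_on with
    | empty => exact ⟨P, le_rfl, hP, by simp⟩
    | insert g F hg ih =>
      obtain ⟨Q, hPQ, hQ, hQF⟩ := ih ((Finset.coe_subset.mpr (Finset.subset_insert _ _)).trans hF)
      have h0 : lT (S := S) N Q.subtype (g • lT (S := S) N (Submodule.inclusion hPQ) y) = 0 := by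
        rw [map_smul, ← LinearMap.comp_apply, ← TensorProduct.AlgebraTensorModule.lTensor_comp]
        exact (hx g).mp (hF (by simp))
      obtain ⟨Q', hQQ', hQ', h1⟩ := exists_fg_eq_zero N hQ _ h0
      refine ⟨Q', hPQ.trans hQQ', hQ', fun a ha => ?_⟩
      have e : lT (S := S) N (Submodule.inclusion (hPQ.trans hQQ')) y =
          lT (S := S) N (Submodule.inclusion hQQ') (lT (S := S) N (Submodule.inclusion hPQ) y) := by
        rw [← LinearMap.comp_apply, ← TensorProduct.AlgebraTensorModule.lTensor_comp]; rfl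
      rcases Finset.mem_insert.mp ha with rfl | ha
      · rw [e, ← map_smul]; exact h1
      · rw [e, ← map_smul, hQF a ha, map_zero]
  obtain ⟨Q, hPQ, hQ, hQG⟩ := step G (by rw [← hG]; exact Submodule.subset_span)
  refine ⟨Q, hQ, mem_ass_iff.mpr ⟨hqp, lT (S := S) N (Submodule.inclusion hPQ) y, fun s => ⟨fun hs => ?_, fun hs => ?_⟩⟩⟩
  · rw [← hG] at hs
    induction hs using Submodule.span_induction with
    | mem a ha => exact hQG a ha
    | zero => simp
    | add a b _ _ ha hb => rw [add_smul, ha, hb, add_zero]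
    | smul c a _ ha => rw [smul_assoc, ha, smul_zero]
  · rw [hx]
    have := congrArg (lT (S := S) N Q.subtype) hs
    rw [map_smul, map_zero, ← LinearMap.comp_apply, ← TensorProduct.AlgebraTensorModule.lTensor_comp] at this
    exact this

theorem mem_ass_quot_of_noetherian [IsNoetherianRing S] {q : Ideal S}
    (h : q ∈ FlatCA.ass S (FlatCA.fiberMod p S N)) :
    q ∈ FlatCA.ass S (N ⧸ (p.map (algebraMap R S)) • (⊤ : Submodule S N)) := by
  classical
  have hq := comap_of_ass_fiberMod N p h
  obtain ⟨hqp, x, hx⟩ := exists_of_ass_fiberMod N p h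
  obtain ⟨G, hG⟩ := IsNoetherian.noetherian q
  have hmem : ∀ g ∈ G, ∃ b : R, b ∉ p ∧ algebraMap R S b • g • x = 0 := fun g hg =>
    θ_eq_zero N p (by
      rw [map_smul]
      exact (hx g).mp (hG ▸ Submodule.subset_span hg))
  choose! b hb hbg using hmem
  let c : R := ∏ g ∈ G, b g
  have hc : c ∉ p := fun h => by
    obtain ⟨g, hg, hgp⟩ := (Ideal.IsPrime.prod_mem_iff (hp := inferInstance)).mp h
    exact hb g hg hgp
  refine mem_ass_iff.mpr ⟨hqp, algebraMap R S c • x, fun s => ⟨fun hs => ?_, fun hs => ?_⟩⟩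
  · rw [← hG] at hs
    induction hs using Submodule.span_induction with
    | mem a ha =>
      obtain ⟨d, hd⟩ : b a ∣ c := Finset.dvd_prod_of_mem b ha
      rw [smul_comm, hd, map_mul, mul_comm, mul_smul, hbg a ha, smul_zero]
    | zero => simp
    | add a b _ _ ha hb => rw [add_smul, ha, hb, add_zero]
    | smul c a _ ha => rw [smul_assoc, ha, smul_zero]
  · have h1 := congrArg (θ N p) hs
    rw [smul_smul, map_smul, map_zero, ← hx] at h1
    exact (hqp.mem_or_mem h1).resolve_right fun hcq => hc (hq ▸ hcq)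

theorem ass_localizedModule {A : Type u} [CommRing A] (T : Submonoid A) (M : Type u) [AddCommGroup M] [Module A M] :
    FlatCA.ass A (LocalizedModule T M) =
        Ideal.comap (algebraMap A (Localization T)) '' FlatCA.ass (Localization T) (LocalizedModule T M) ∧
      ∀ p ∈ FlatCA.ass A M, Disjoint (T : Set A) (p : Set A) → p ∈ FlatCA.ass A (LocalizedModule T M) := by
  constructor
  · ext p
    constructor
    · intro hp
      obtain ⟨hpp, z, hz⟩ := mem_ass_iff.mp hp
      let P : Ideal (Localization T) := (Submodule.span (Localization T) {z}).annihilator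
      have hP : ∀ x, x ∈ P ↔ x • z = 0 := fun x => Submodule.mem_annihilator_span_singleton z x
      have hc : P.under A = p := by
        ext a
        rw [Ideal.under_def, Ideal.mem_comap, hP, IsScalarTower.algebraMap_smul, hz]
      have hdis : Disjoint (T : Set A) (P.under A : Set A) := by
        rw [hc, Set.disjoint_left]
        intro t ht htp
        refine hpp.ne_top ((Ideal.eq_top_iff_one _).mpr ((hz 1).mpr ?_))
        rw [one_smul]
        have := (hz t).mp htp
        rw [← IsScalarTower.algebraMap_smul (Localization T) t] at this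
        exact ((IsLocalization.map_units (Localization T) (⟨t, ht⟩ : T)).smul_eq_zero).mp this
      exact ⟨P, mem_ass_iff.mpr ⟨(IsLocalization.isPrime_iff_isPrime_disjoint T (Localization T) P).mpr
        ⟨hc.symm ▸ hpp, hdis⟩, z, hP⟩, hc⟩
    · rintro ⟨P, hP, rfl⟩
      obtain ⟨hPp, z, hz⟩ := mem_ass_iff.mp hP
      refine mem_ass_iff.mpr ⟨Ideal.IsPrime.comap _, z, fun a => ?_⟩
      rw [Ideal.mem_comap, hz, IsScalarTower.algebraMap_smul]
  · intro p hp hdis
    obtain ⟨hpp, m, hm⟩ := mem_ass_iff.mp hp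
    refine mem_ass_iff.mpr ⟨hpp, LocalizedModule.mkLinearMap T M m, fun a => ?_⟩
    rw [← map_smul, IsLocalizedModule.eq_zero_iff T]
    constructor
    · intro ha
      exact ⟨1, by rw [one_smul]; exact (hm a).mp ha⟩
    · rintro ⟨t, ht⟩
      rw [Submonoid.smul_def, smul_smul, ← hm] at ht
      exact (hpp.mem_or_mem ht).resolve_left (Set.disjoint_left.mp hdis t.2)

theorem ass_localized_flat_domain [IsDomain R] [Module.Flat R N] :
    FlatCA.ass S N = FlatCA.ass S (LocalizedModule (Algebra.algebraMapSubmonoid S (nonZeroDivisors R)) N) := by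
  set T := Algebra.algebraMapSubmonoid S (nonZeroDivisors R)
  have hreg : ∀ t ∈ T, ∀ n : N, t • n = 0 → n = 0 := by
    rintro _ ⟨r, hr, rfl⟩ n hn
    rw [IsScalarTower.algebraMap_smul] at hn
    exact (Module.Flat.isSMulRegular_of_nonZeroDivisors hr) (by simpa using hn)
  have hinj : Function.Injective (LocalizedModule.mkLinearMap T N) := by
    rw [injective_iff_map_eq_zero]
    intro n hn
    obtain ⟨t, ht⟩ := (IsLocalizedModule.eq_zero_iff T _).mp hn
    exact hreg t t.2 n ht
  apply Set.Subset.antisymm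
  · exact fun q hq => ass_mono _ hinj hq
  · intro q hq
    obtain ⟨hqp, z, hz⟩ := mem_ass_iff.mp hq
    obtain ⟨⟨n, t⟩, hn⟩ := IsLocalizedModule.surj T (LocalizedModule.mkLinearMap T N) z
    refine mem_ass_iff.mpr ⟨hqp, n, fun s => ?_⟩
    rw [hz, ← map_eq_zero_iff _ hinj, map_smul, ← hn, smul_comm]
    refine ⟨fun h => by rw [h, smul_zero], fun h => ?_⟩
    rw [Submonoid.smul_def, ← IsScalarTower.algebraMap_smul (Localization T) (t : S)] at h
    exact ((IsLocalization.map_units (Localization T) t).smul_eq_zero).mp h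

end GrothLib.AssFib
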